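import Groth.Agent.HypSq70.LES
import Groth.Agent.ProjTwist.Pn.Top
import Groth.Agent.ProjTwist.Pn.H0
import Groth.Agent.PlanePts.Forms
import Groth.Agent.SerrePn.Duality
import Groth.Agent.DualAbs.Horrocks
import Groth.Agent.EulerChar.Restrict
import Groth.Agent.EulerChar.Cartier
import Groth.Agent.ProjTwist.Pn.Boundedness

/-!
# Cohomology of the cokernel of a monomorphism `O(a) → O(b)` on projective space
-/

set_option autoImplicit false
set_option linter.style.haveILetI false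

universe u

open CategoryTheory CategoryTheory.Limits AlgebraicGeometry

noncomputable section

namespace Groth.Agent.HypCoh70

open SerrePn

variable {r : ℕ} {F : Type u} [Field F] {a b c : ℤ}

theorem mult_zero : mult (0 : Twist.twistProjSpace r F a ⟶ Twist.twistProjSpace r F c) = 0 := by
  have hp : (0 : MvPolynomial (Fin (r + 1)) F) ∈ CohB1.polyGrading r F 0 := zero_mem _
  have h := DualAbs.mult_comp (mulHom a a hp (by simp)) (0 : Twist.twistProjSpace r F a ⟶ Twist.twistProjSpace r F c)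
  rw [comp_zero, mult_mulHom, map_zero, mul_zero] at h
  exact h

theorem eq_zero_of_comp {φ : Twist.twistProjSpace r F a ⟶ Twist.twistProjSpace r F b} [Mono φ]
    (ψ : Twist.twistProjSpace r F b ⟶ Twist.twistProjSpace r F c) (h : φ ≫ ψ = 0) : ψ = 0 := by
  have h' := DualAbs.mult_comp φ ψ
  rw [h, mult_zero] at h'
  rcases mul_eq_zero.1 h'.symm with h0 | h0
  · exact eq_of_mult_eq (h0.trans mult_zero.symm)
  · exfalso
    have hz : φ = 0 := eq_of_mult_eq (h0.trans mult_zero.symm)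
    have hid : 𝟙 (Twist.twistProjSpace r F a) = 0 := by
      rw [← cancel_mono φ]
      simp [hz]
    have h1 := congrArg mult hid
    rw [DualAbs.mult_id, mult_zero] at h1
    exact one_ne_zero h1

variable (r F)

/-- The dimension of the cohomology of `O(n)`. -/
abbrev ht (n : ℤ) (j : ℕ) : ℕ :=
  Module.finrank F (Coh.HH (CohB1.ProjSpace r F) (Twist.twistProjSpace r F n) j)

theorem ht_zero (hr : 1 ≤ r) (n : ℤ) : ht r F n 0 = (n + r).toNat.choose r := by
  rcases le_or_gt 0 n with hn | hn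
  · obtain ⟨d, rfl⟩ := Int.eq_ofNat_of_zero_le hn
    rw [show ((d : ℤ) + r).toNat = r + d by omega]
    exact (ProjTwist.Pn.h0Equiv r F d).finrank_eq.symm.trans (PlanePts.finrank_forms F r d)
  · haveI := ProjTwist.Pn.subsingleton_H0 (n := r) (R := F) (d := n) hr hn
    rw [ht, Module.finrank_zero_of_subsingleton, Nat.choose_eq_zero_of_lt (by omega)]

theorem ht_top (hr : 1 ≤ r) (n : ℤ) : ht r F n r = (-n - 1).toNat.choose r := by
  rcases le_or_gt (-(r : ℤ)) n with hn | hn
  · obtain ⟨q, rfl⟩ := Nat.exists_eq_add_of_le' hr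
    haveI := ProjTwist.Pn.subsingleton_twist (n := q + 1) (R := F) n q (Or.inr (by omega))
    rw [ht, Module.finrank_zero_of_subsingleton, Nat.choose_eq_zero_of_lt (by omega)]
  · obtain ⟨m, hm⟩ := Int.eq_ofNat_of_zero_le (show 0 ≤ -((r : ℤ) + 1) - n by omega)
    obtain rfl : n = -((r : ℤ) + 1 + m) := by omega
    rw [show (-(-((r : ℤ) + 1 + m)) - 1).toNat = r + m by omega]
    exact (ProjTwist.Pn.topEquiv r F m).finrank_eq.trans (PlanePts.finrank_forms F r m)

theorem subsingleton_mid (n : ℤ) (j : ℕ) (h0 : j ≠ 0) (hj : j ≠ r) :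
    Subsingleton (Coh.HH (CohB1.ProjSpace r F) (Twist.twistProjSpace r F n) j) := by
  obtain ⟨q, rfl⟩ := Nat.exists_eq_add_of_le' (Nat.one_le_iff_ne_zero.2 h0)
  exact ProjTwist.Pn.subsingleton_twist (n := r) (R := F) n q (Or.inl hj)

variable {r F}
variable {S : ShortComplex (CohB1.ProjSpace r F).Modules} (hS : S.ShortExact)
  (eA : S.X₁ ≅ Twist.twistProjSpace r F a) (eB : S.X₂ ≅ Twist.twistProjSpace r F b)

include hS eA eB

theorem isCoh₃ (hq : Coh.IsQCoh S.X₃) : Coh.IsCoh S.X₃ :=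
  haveI := hS.epi_g
  CohDev.isCoh_of_epi S.g (CohDev.isCoh_of_iso eB.symm (isCoh_twist b)) hq

theorem subsingleton_top (h₃ : Coh.IsCoh S.X₃) :
    Subsingleton (Coh.HH (CohB1.ProjSpace r F) S.X₃ r) := by
  haveI := hS.mono_f
  haveI := hS.epi_g
  refine subsingleton_of_forall_eq 0 fun x => ?_
  refine (Module.forall_dual_apply_eq_zero_iff F x).1 fun ψ => ?_
  obtain ⟨φ, hφ⟩ := exists_pairing_eq S.X₃ h₃ ψ
  have h0 : (eA.inv ≫ S.f ≫ eB.hom) ≫ (eB.inv ≫ S.g ≫ φ) = 0 := by simp
  have h1 := eq_zero_of_comp _ h0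
  have h2 : φ = 0 := by
    rw [← cancel_epi S.g, comp_zero, ← cancel_epi eB.inv, comp_zero]
    exact h1
  rw [← hφ, h2, map_zero]
  rfl

/-- The dimensions of the cohomology of the cokernel. -/
theorem main (hr : 1 ≤ r) (h₃ : Coh.IsCoh S.X₃) :
    (∀ p, p ≠ 0 → p + 1 ≠ r → Subsingleton (Coh.HH (CohB1.ProjSpace r F) S.X₃ p)) ∧
    (2 ≤ r → Module.finrank F (Coh.HH (CohB1.ProjSpace r F) S.X₃ 0) = ht r F b 0 - ht r F a 0 ∧
      Module.finrank F (Coh.HH (CohB1.ProjSpace r F) S.X₃ (r - 1)) = ht r F a r - ht r F b r) ∧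
    (r = 1 → Module.finrank F (Coh.HH (CohB1.ProjSpace r F) S.X₃ 0) =
      (ht r F b 0 - ht r F a 0) + (ht r F a r - ht r F b r)) := by
  haveI : IsProper (CohB1.ProjSpace r F ↘ Spec (CommRingCat.of F)) := ProjProper.Basic.isProper_toSpec r F
  have h₁ : Coh.IsCoh S.X₁ := CohDev.isCoh_of_iso eA.symm (isCoh_twist a)
  have h₂ : Coh.IsCoh S.X₂ := CohDev.isCoh_of_iso eB.symm (isCoh_twist b)
  haveI fA := fun j => EulerChar.finite_HH F S.X₁ h₁ j
  haveI fB := fun j => EulerChar.finite_HH F S.X₂ h₂ j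
  haveI fC := fun j => EulerChar.finite_HH F S.X₃ h₃ j
  have hA : ∀ j, Module.finrank F (Coh.HH (CohB1.ProjSpace r F) S.X₁ j) = ht r F a j :=
    fun j => (CohLES.mapEquiv F eA j).finrank_eq
  have hB : ∀ j, Module.finrank F (Coh.HH (CohB1.ProjSpace r F) S.X₂ j) = ht r F b j :=
    fun j => (CohLES.mapEquiv F eB j).finrank_eq
  have zA : ∀ n j, j ≠ 0 → j ≠ r → ht r F n j = 0 := fun n j h0 hj =>
    haveI := subsingleton_mid r F n j h0 hj
    Module.finrank_zero_of_subsingleton
  have e₁ := fun j => CurveCoh.finrank_exact₃ F _ _ (CurveCoh.exact_mapL F hS j)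
  have e₂ := fun j => CurveCoh.finrank_exact₃ F _ _ (CurveCoh.exact_mapL_deltaL F hS j (j + 1) rfl)
  have e₃ := fun j => CurveCoh.finrank_exact₃ F _ _ (CurveCoh.exact_deltaL_mapL F hS j (j + 1) rfl)
  have i₀ := LinearMap.finrank_range_of_inj (CurveCoh.injective_mapL_zero F hS)
  have uA := fun j => LinearMap.finrank_range_le (CurveCoh.mapL F S.f j)
  have uB := fun j => Submodule.finrank_le (LinearMap.range (CurveCoh.mapL F S.f j))
  have uC := fun j => Submodule.finrank_le (LinearMap.range (CurveCoh.mapL F S.g j))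
  have uD := fun j => Submodule.finrank_le (LinearMap.range (CurveCoh.deltaL F hS j (j + 1) rfl))
  have top : Module.finrank F (Coh.HH (CohB1.ProjSpace r F) S.X₃ r) = 0 :=
    haveI := subsingleton_top hS eA eB h₃
    Module.finrank_zero_of_subsingleton
  simp only [hA, hB] at e₁ e₂ e₃ i₀ uA uB uC uD
  refine ⟨fun p h0 hp => ?_, fun h2 => ⟨?_, ?_⟩, fun h1 => ?_⟩
  · refine (Module.finrank_zero_iff (R := F)).1 ?_
    rcases eq_or_ne p r with rfl | hpr
    · exact top
    · have z1 := zA b p h0 hpr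
      have z2 := zA a (p + 1) (by omega) hp
      have := e₁ p
      have := e₂ p
      have := uD p
      omega
  · have z2 := zA a 1 (by omega) (by omega)
    have := e₁ 0
    have := e₂ 0
    have := uD 0
    simp only [Nat.zero_add] at *
    omega
  · obtain ⟨q, rfl⟩ := Nat.exists_eq_add_of_le' hr
    rw [Nat.add_sub_cancel]
    have z1 := zA b q (by omega) (by omega)
    have := e₁ q
    have := e₂ q
    have := e₃ q
    have := e₁ (q + 1)
    have := uC (q + 1)
    omega
  · subst h1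
    have t1 : Module.finrank F (Coh.HH (CohB1.ProjSpace 1 F) S.X₃ (0 + 1)) = 0 := top
    have ha : ht 1 F a (0 + 1) = ht 1 F a 1 := rfl
    have hb : ht 1 F b (0 + 1) = ht 1 F b 1 := rfl
    have := e₁ 0
    have := e₂ 0
    have := e₃ 0
    have := e₁ (0 + 1)
    have := uC (0 + 1)
    omega

omit hS eA eB

/-- The twisted sequence of a hypersurface. -/
theorem exists_ses (k : ℕ) (I : (CohB1.ProjSpace r F).IdealSheafData)
    (hI : Nonempty (ClSub.idealMod I ≅ Twist.twistProjSpace r F (-(k : ℤ)))) (n : ℤ) :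
    ∃ S : ShortComplex (CohB1.ProjSpace r F).Modules, S.ShortExact ∧
      Nonempty (S.X₁ ≅ Twist.twistProjSpace r F (n - k)) ∧ Nonempty (S.X₂ ≅ Twist.twistProjSpace r F n) ∧
      S.X₃ = CohB1.tensorMod (ClSub.quotMod I) (Twist.twistProjSpace r F n) ∧ Coh.IsCoh S.X₃ := by
  haveI : IsProper (CohB1.ProjSpace r F ↘ Spec (CommRingCat.of F)) := ProjProper.Basic.isProper_toSpec r F
  haveI := EulerChar.isNoetherian F (X := CohB1.ProjSpace r F)
  obtain ⟨eI⟩ := hI
  obtain ⟨t⟩ := ProjTwist.nonempty_twistProjSpace_tensor r F (-(k : ℤ)) n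
  refine ⟨_, ProjTwist.shortExact_tensor (ProjTwist.isInvertible_twistProjSpace r F n) (EulerChar.shortExact_ideal I),
    ⟨ProjTwist.tensCongr eI (Iso.refl _) ≪≫ t ≪≫ eqToIso (by rw [neg_add_eq_sub])⟩, ⟨ProjTwist.oneTens _⟩, rfl, ?_⟩
  exact ProjTwist.isCoh_tensor (ProjTwist.isInvertible_twistProjSpace r F n) (EulerChar.isCoh_quotMod F I)

end Groth.Agent.HypCoh70
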